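import Mathlib.RingTheory.Finiteness.Basic
import Mathlib.RingTheory.SimpleModule.Basic
import Groth.Agent.DualCxLib.DimFnLocal
import Groth.Agent.DRingLib.PCohTop
import Groth.Agent.DRingLib.PCohMore

/-!
# A pseudo-coherent object with no maps to shifts of the unit is zero
-/

set_option autoImplicit false
set_option linter.all false
set_option maxHeartbeats 1000000

universe u

open CategoryTheory CategoryTheory.Limits CategoryTheory.Pretriangulated
open Groth.Agent
open DTenLib.Point (hH sg)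

attribute [local instance] HasDerivedCategory.standard

noncomputable section

namespace RelDualRingLib

open Groth.Agent.DualCxLib

variable {R : Type u} [CommRing R]

/-- No maps from `C` to any shift of `Y`. -/
def Vanish (C Y : Dual.D R) : Prop := ∀ i : ℤ, Subsingleton (C ⟶ Y⟦i⟧)

theorem subsingleton_ext_iff (Y : Dual.D R) (i : ℤ) :
    Subsingleton (Ext Y (ModuleCat.of R R) i) ↔ IsZero ((hH R i).obj Y) := by
  constructor
  · intro h
    haveI : Subsingleton ((hH R i).obj Y) := (extHL Y i).symm.toEquiv.subsingleton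
    exact ModuleCat.isZero_of_subsingleton _
  · intro h
    haveI := ModuleCat.subsingleton_of_isZero h
    exact (extHL Y i).toEquiv.subsingleton

theorem subsingleton_shift_one {Y : Dual.D R} (i : ℤ) (X : Dual.D R) (h : Subsingleton (X ⟶ Y⟦i + 1⟧)) :
    Subsingleton (X ⟶ (Y⟦i⟧)⟦(1 : ℤ)⟧) :=
  @Equiv.subsingleton _ _ ((Iso.refl X).homCongr ((shiftFunctorAdd' (Dual.D R) i 1 (i + 1) rfl).app Y)).symm h

/-- Cones of multiplication inherit vanishing. -/
theorem vanish_obj₃ {C : Dual.D R} {T : Triangle (Dual.D R)} (hT : T ∈ distTriang (Dual.D R))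
    (h₁ : Vanish C T.obj₁) (h₂ : Vanish C T.obj₂) : Vanish C T.obj₃ := fun i => by
  let T' := (Triangle.shiftFunctor (Dual.D R) i).obj T
  have hT' : T' ∈ distTriang (Dual.D R) := Triangle.shift_distinguished T hT i
  refine ⟨fun x y => sub_eq_zero.1 ?_⟩
  have := subsingleton_shift_one i C (h₁ (i + 1))
  obtain ⟨g, hg⟩ := T'.coyoneda_exact₃ hT' (x - y) ((this.elim ((x - y) ≫ T'.mor₃) 0))
  haveI := h₂ i
  rw [hg, show g = 0 from Subsingleton.elim (α := C ⟶ T.obj₂⟦i⟧) g 0]
  exact zero_comp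

theorem mor₁_shift {Y Z : Dual.D R} (f : R) (g : Y ⟶ Z) (w : Z ⟶ Y⟦(1 : ℤ)⟧) (i : ℤ) :
    ((Triangle.shiftFunctor (Dual.D R) i).obj (Triangle.mk (f • 𝟙 Y) g w)).mor₁ = f • (i.negOnePow • 𝟙 (Y⟦i⟧)) := by
  show i.negOnePow • (f • 𝟙 Y)⟦i⟧' = f • (i.negOnePow • 𝟙 (Y⟦i⟧))
  rw [Functor.map_smul, CategoryTheory.Functor.map_id]
  exact smul_comm _ _ _

section Generic

variable {D : Type*} [Category D] [Preadditive D] [Linear R D]

theorem map_smul_units {E : Type*} [Category E] [Preadditive E] [Linear R E] (F : D ⥤ E) [F.Additive]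
    [F.Linear R] (f : R) (v : ℤˣ) (Y : D) : F.map (f • (v • 𝟙 Y)) = f • (v • 𝟙 (F.obj Y)) := by
  rw [Functor.map_smul, Units.smul_def, Units.smul_def, Functor.map_zsmul, CategoryTheory.Functor.map_id]

theorem comp_smul_units {X Y : D} (f : R) (v : ℤˣ) (y : X ⟶ Y) : y ≫ (f • (v • 𝟙 Y)) = f • (v • y) := by
  rw [Linear.comp_smul, Linear.comp_units_smul, Category.comp_id]

theorem smul_comp_eq_zero {X Z Y : D} {f : R} {v : ℤˣ} (x : X ⟶ Z) {d : Z ⟶ Y} {m : Y ⟶ Y}
    (hm : m = f • (v • 𝟙 Y)) (h : d ≫ m = 0) : (f • x) ≫ d = 0 := by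
  rw [hm, comp_smul_units, smul_comm, smul_eq_zero_iff_eq] at h
  rw [Linear.smul_comp, ← Linear.comp_smul, h, comp_zero]

theorem smul_comp_eq_zero' {X Z Y : D} {f : R} {v : ℤˣ} (y : X ⟶ Y) {g : Y ⟶ Z} {m : Y ⟶ Y}
    (hm : m = f • (v • 𝟙 Y)) (h : m ≫ g = 0) : f • (y ≫ g) = 0 := by
  rw [hm, Linear.smul_comp, Linear.units_smul_comp, Category.id_comp, smul_comm, smul_eq_zero_iff_eq] at h
  rw [← Linear.comp_smul, h, comp_zero]

end Generic

theorem eq_smul_of_kernel {Y Z : Dual.D R} {f : R} {g : Y ⟶ Z} {w : Z ⟶ Y⟦(1 : ℤ)⟧}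
    (hT : Triangle.mk (f • 𝟙 Y) g w ∈ distTriang (Dual.D R)) (i : ℤ) {X : Dual.D R} (x : X ⟶ Y⟦i⟧)
    (hx : x ≫ ((Triangle.shiftFunctor (Dual.D R) i).obj (Triangle.mk (f • 𝟙 Y) g w)).mor₂ = 0) :
    ∃ y : X ⟶ Y⟦i⟧, x = f • y := by
  let T' := (Triangle.shiftFunctor (Dual.D R) i).obj (Triangle.mk (f • 𝟙 Y) g w)
  obtain ⟨y, hy⟩ := T'.coyoneda_exact₂ (Triangle.shift_distinguished _ hT i) x hx
  refine ⟨i.negOnePow • y, ?_⟩
  change x = y ≫ ((Triangle.shiftFunctor (Dual.D R) i).obj (Triangle.mk (f • 𝟙 Y) g w)).mor₁ at hy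
  exact hy.trans ((congrArg _ (mor₁_shift f g w i)).trans (comp_smul_units f _ y))

/-- The Koszul object of a list, by iterated cones. -/
theorem exists_test (fs : List R) (I : Ideal R) (hI : ∀ f ∈ fs, f ∈ I) :
    ∃ (Y : Dual.D R) (N : ℕ), (∀ C : Dual.D R, Vanish C (sg (ModuleCat.of R R) 0) → Vanish C Y) ∧
      (∀ i : ℤ, (i < -(N : ℤ) ∨ 0 < i) → Subsingleton (Ext Y (ModuleCat.of R R) i)) ∧
      (∀ f ∈ fs, ∃ a : ℕ, ∀ (i : ℤ) (x : Ext Y (ModuleCat.of R R) i), f ^ a • x = 0) ∧
      ∃ π : Ext Y (ModuleCat.of R R) 0 →ₗ[R] R ⧸ I, Function.Surjective π := by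
  induction fs with
  | nil =>
    refine ⟨sg (ModuleCat.of R R) 0, 0, fun C h => h, fun i hi => ?_, by simp, ?_⟩
    · exact (subsingleton_ext_iff _ i).2 (DTenLib.Point.isZero_sg (by omega))
    · let e := (extHL (sg (ModuleCat.of R R) 0) 0).trans (DTenLib.Point.sgH (ModuleCat.of R R) 0).toLinearEquiv
      exact ⟨(Submodule.mkQ I).comp e.toLinearMap, (Submodule.mkQ_surjective I).comp e.surjective⟩
  | cons f fs ih =>
    obtain ⟨Y, N, hC, hb, hn, π, hπ⟩ := ih fun g hg => hI g (List.mem_cons_of_mem _ hg)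
    obtain ⟨Z, g, w, hT⟩ := distinguished_cocone_triangle (f • 𝟙 Y)
    let G := ModuleCat.of R R
    let T' := fun i : ℤ => (Triangle.shiftFunctor (Dual.D R) i).obj (Triangle.mk (f • 𝟙 Y) g w)
    have hT' : ∀ i, T' i ∈ distTriang (Dual.D R) := fun i => Triangle.shift_distinguished _ hT i
    have key : ∀ (i : ℤ) (x : Ext Z G i), x ≫ (T' i).mor₃ = 0 → ∃ y : Ext Y G i, y ≫ (T' i).mor₂ = x := fun i x hx => by
      obtain ⟨y, hy⟩ := (T' i).coyoneda_exact₃ (hT' i) x hx
      exact ⟨y, hy.symm⟩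
    have hz : ∀ i, Subsingleton (Ext Y G (i + 1)) → ∀ x : Ext Z G i, x ≫ (T' i).mor₃ = 0 := fun i h x =>
      (subsingleton_shift_one (Y := Y) i (sg G 0) h).elim _ _
    refine ⟨Z, N + 1, fun C h => vanish_obj₃ hT (hC C h) (hC C h), fun i hi => ⟨fun x x' => sub_eq_zero.1 ?_⟩,
      fun b hb' => ?_, ?_⟩
    · obtain ⟨y, hy⟩ := key i (x - x') (hz i (hb (i + 1) (by omega)) _)
      haveI := hb i (by omega)
      rw [← hy, Subsingleton.elim y 0]
      exact zero_comp
    · have main : ∀ b : R, (∃ a : ℕ, ∀ i (y : Ext Y G i), f = b ∨ b ^ a • y = 0) →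
          ∃ a : ℕ, ∀ (i : ℤ) (x : Ext Z G i), b ^ a • x = 0 := by
        rintro b ⟨a, ha⟩
        by_cases hbf : f = b
        · subst hbf
          refine ⟨2, fun i x => ?_⟩
          have h1 : (f • x) ≫ (T' i).mor₃ = 0 :=
            smul_comp_eq_zero x ((congrArg _ (mor₁_shift f g w i)).trans (map_smul_units _ f _ _))
              (comp_distTriang_mor_zero₃₁ _ (hT' i))
          obtain ⟨y, hy⟩ := key i (f • x) h1
          rw [pow_two, mul_smul, ← hy]
          exact smul_comp_eq_zero' y (mor₁_shift f g w i) (comp_distTriang_mor_zero₁₂ _ (hT' i))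
        · refine ⟨a + a, fun i x => ?_⟩
          have h1 : (b ^ a • x) ≫ (T' i).mor₃ = 0 := by
            let e := DualCxLib.postcompL (sg G 0) ((shiftFunctorAdd' (Dual.D R) i 1 (i + 1) rfl).app Y).symm
            refine e.injective ?_
            exact (congrArg e (Linear.smul_comp _ _ _ _ _ _)).trans ((map_smul e _ _).trans
              (((ha (i + 1) _).resolve_left hbf).trans (map_zero e).symm))
          obtain ⟨y, hy⟩ := key i _ h1
          rw [pow_add, mul_smul, ← hy]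
          exact (Linear.smul_comp _ _ _ _ _ _).symm.trans ((congrArg (· ≫ (T' i).mor₂) ((ha i y).resolve_left hbf)).trans zero_comp)
      rcases List.mem_cons.1 hb' with rfl | hb'
      · exact main b ⟨0, fun _ _ => Or.inl rfl⟩
      · obtain ⟨a, ha⟩ := hn b hb'
        exact main b ⟨a, fun i y => Or.inr (ha i y)⟩
    · let μ : Ext Y G 0 →ₗ[R] Ext Z G 0 :=
        { toFun := fun y => y ≫ (T' 0).mor₂
          map_add' := fun _ _ => Preadditive.add_comp ..
          map_smul' := fun _ _ => Linear.smul_comp .. }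
      have hμ : Function.Surjective μ := fun x => key 0 x (hz 0 (hb (0 + 1) (by omega)) x)
      have hker : LinearMap.ker μ ≤ LinearMap.ker π := fun x hx => by
        obtain ⟨y, rfl⟩ := eq_smul_of_kernel hT 0 x hx
        obtain ⟨r, hr⟩ := Ideal.Quotient.mk_surjective (π y)
        rw [LinearMap.mem_ker, map_smul, ← hr]
        exact Ideal.Quotient.eq_zero_iff_mem.2 (I.mul_mem_right r (hI f List.mem_cons_self))
      refine ⟨((LinearMap.ker μ).liftQ π hker).comp (μ.quotKerEquivOfSurjective hμ).symm.toLinearMap,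
        fun z => ?_⟩
      obtain ⟨y, rfl⟩ := hπ z
      refine ⟨μ.quotKerEquivOfSurjective hμ (Submodule.Quotient.mk y), ?_⟩
      rw [LinearMap.comp_apply, LinearEquiv.coe_coe, LinearEquiv.symm_apply_apply]
      rfl

/-- A common socle element. -/
theorem exists_killed {M : Type*} [AddCommGroup M] [Module R M] (fs : List R)
    (h : ∀ f ∈ fs, ∃ a : ℕ, ∀ x : M, f ^ a • x = 0) [Nontrivial M] : ∃ x : M, x ≠ 0 ∧ ∀ f ∈ fs, f • x = 0 := by
  classical
  induction fs with
  | nil => exact ⟨(exists_ne (0 : M)).choose, (exists_ne (0 : M)).choose_spec, by simp⟩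
  | cons f fs ih =>
    obtain ⟨x, hx, hxk⟩ := ih fun g hg => h g (List.mem_cons_of_mem _ hg)
    have hex : ∃ a : ℕ, f ^ a • x = 0 := by
      obtain ⟨a, ha⟩ := h f List.mem_cons_self
      exact ⟨a, ha x⟩
    rcases hN : Nat.find hex with _ | k
    · exact absurd (by simpa [hN] using Nat.find_spec hex) hx
    · refine ⟨f ^ k • x, Nat.find_min hex (by omega), fun g hg => ?_⟩
      rcases List.mem_cons.1 hg with rfl | hg
      · rw [smul_smul, ← pow_succ']
        have := Nat.find_spec hex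
        rwa [hN] at this
      · rw [smul_comm, hxk g hg, smul_zero]

/-- A finitely presented nonzero module maps onto a quotient by a proper finitely generated ideal. -/
theorem exists_surjective_quotient (T : Type u) [AddCommGroup T] [Module R T] [Module.FinitePresentation R T]
    [Nontrivial T] : ∃ (fs : List R) (I : Ideal R) (ψ : T →ₗ[R] R ⧸ I),
      I = Ideal.span {x | x ∈ fs} ∧ I ≠ ⊤ ∧ Function.Surjective ψ := by
  classical
  obtain ⟨k, g, hg⟩ := Module.Finite.exists_fin' R T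
  obtain ⟨s, hs⟩ := Module.FinitePresentation.fg_ker g hg
  obtain ⟨N, hN⟩ := IsCoatomic.exists_coatom (Submodule R T)
  haveI : IsSimpleModule R (T ⧸ N) := isSimpleModule_iff_isCoatom.2 hN
  obtain ⟨m, hm, ⟨e⟩⟩ := isSimpleModule_iff_quot_maximal.1 (inferInstance : IsSimpleModule R (T ⧸ N))
  let π₀ : T →ₗ[R] R ⧸ m := e.toLinearMap.comp N.mkQ
  choose c hc using fun j : Fin k => Ideal.Quotient.mk_surjective (π₀ (g (Pi.single j 1)))
  let ev : (Fin k → R) →ₗ[R] R := ∑ j, c j • LinearMap.proj j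
  have hev : ∀ v, Ideal.Quotient.mk m (ev v) = π₀ (g v) := by
    have : (Ideal.Quotient.mk m).toAddMonoidHom.comp ev.toAddMonoidHom = (π₀.comp g).toAddMonoidHom := by
      refine AddMonoidHom.functions_ext _ _ _ fun j r => ?_
      show Ideal.Quotient.mk m (ev (Pi.single j r)) = π₀ (g (Pi.single j r))
      have h1 : ev (Pi.single j r) = r * c j := by
        simp [ev, Pi.single_apply, mul_comm]
      have h2 : (Pi.single j r : Fin k → R) = r • Pi.single j 1 := by
        ext l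
        simp [Pi.single_apply]
      rw [h1, map_mul, hc, h2, map_smul, map_smul]
      obtain ⟨y, hy⟩ := Ideal.Quotient.mk_surjective (π₀ (g (Pi.single j 1)))
      rw [← hy]
      rfl
    exact fun v => DFunLike.congr_fun this v
  obtain ⟨v, hv⟩ : ∃ v, π₀ (g v) = Ideal.Quotient.mk m 1 := by
    obtain ⟨t, ht⟩ := e.surjective (Ideal.Quotient.mk m 1)
    obtain ⟨t', rfl⟩ := N.mkQ_surjective t
    obtain ⟨v, rfl⟩ := hg t'
    exact ⟨v, ht⟩
  let fs := (ev v - 1) :: s.toList.map ev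
  let I := Ideal.span {x | x ∈ fs}
  have hle : I ≤ m := Ideal.span_le.2 fun x hx => by
    rcases List.mem_cons.1 hx with rfl | hx
    · rw [SetLike.mem_coe, ← Ideal.Quotient.eq, hev, hv]
    · obtain ⟨z, hz, rfl⟩ := List.mem_map.1 hx
      rw [SetLike.mem_coe, ← Ideal.Quotient.eq_zero_iff_mem, hev]
      have : g z = 0 := LinearMap.mem_ker.1 (hs ▸ Submodule.subset_span (Finset.mem_toList.1 hz))
      rw [this, map_zero]
  have hk : LinearMap.ker g ≤ LinearMap.ker ((Submodule.mkQ I).comp ev) := by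
    rw [← hs, Submodule.span_le]
    intro z hz
    rw [SetLike.mem_coe, LinearMap.mem_ker, LinearMap.comp_apply, Submodule.mkQ_apply, Submodule.Quotient.mk_eq_zero]
    exact Ideal.subset_span (List.mem_cons_of_mem _ (List.mem_map.2 ⟨z, Finset.mem_toList.2 hz, rfl⟩))
  refine ⟨fs, I, ((LinearMap.ker g).liftQ _ hk).comp (g.quotKerEquivOfSurjective hg).symm.toLinearMap, rfl,
    ne_top_of_le_ne_top hm.ne_top hle, fun z => ?_⟩
  obtain ⟨r, rfl⟩ := Ideal.Quotient.mk_surjective z
  refine ⟨g.quotKerEquivOfSurjective hg (Submodule.Quotient.mk (r • v)), ?_⟩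
  rw [LinearMap.comp_apply, LinearEquiv.coe_coe, LinearEquiv.symm_apply_apply]
  show Ideal.Quotient.mk I (ev (r • v)) = Ideal.Quotient.mk I r
  rw [map_smul, smul_eq_mul, Ideal.Quotient.eq, show r * ev v - r = r * (ev v - 1) by ring]
  exact I.mul_mem_left r (Ideal.subset_span List.mem_cons_self)

/-- The top cohomology of a pseudo-coherent object without maps to the unit vanishes. -/
theorem isZero_top {C : Dual.D R} (hC : DRing.IsPseudoCoherent' R C) (hv : Vanish C (sg (ModuleCat.of R R) 0))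
    (t : ℤ) (ht : ∀ i, t < i → IsZero ((hH R i).obj C)) : IsZero ((hH R t).obj C) := by
  haveI hfp : Module.FinitePresentation R (((hH R t).obj C : ModuleCat.{u} R) : Type u) := by
    have := DRingLib.finitePresentation_of_isPseudoCoherent ((DRingLib.isPseudoCoherent'_iff_forall.1 hC) (t - 1))
      (fun i hi => ht i (by omega))
    rwa [sub_add_cancel] at this
  by_contra hne
  haveI : Nontrivial ((hH R t).obj C) := by
    by_contra h
    haveI := not_nontrivial_iff_subsingleton.1 h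
    exact hne (ModuleCat.isZero_of_subsingleton _)
  obtain ⟨fs, I, ψ, hI, hItop, hψ⟩ := exists_surjective_quotient (R := R) (((hH R t).obj C : ModuleCat.{u} R) : Type u)
  obtain ⟨Y, N, hYC, hYb, hYn, π, hπ⟩ := exists_test fs I (fun f hf => hI ▸ Ideal.subset_span hf)
  have hex : ∃ j : ℕ, Nontrivial (Ext Y (ModuleCat.of R R) ((j : ℤ) - N)) := by
    haveI : Nontrivial (R ⧸ I) := Ideal.Quotient.nontrivial_iff.2 hItop
    refine ⟨N, ?_⟩
    rw [sub_self]
    exact hπ.nontrivial
  classical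
  let a : ℤ := (Nat.find hex : ℤ) - N
  haveI : Nontrivial (Ext Y (ModuleCat.of R R) a) := Nat.find_spec hex
  have hlow : ∀ i, i < a → Subsingleton (Ext Y (ModuleCat.of R R) i) := fun i hi => by
    by_cases h : i < -(N : ℤ)
    · exact hYb i (Or.inl h)
    · have := Nat.find_min hex (m := (i + N).toNat) (by omega)
      rw [show (((i + N).toNat : ℕ) : ℤ) - N = i by omega] at this
      exact not_nontrivial_iff_subsingleton.1 this
  obtain ⟨x, hx, hxk⟩ := exists_killed (M := Ext Y (ModuleCat.of R R) a) fs fun f hf => by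
    obtain ⟨e, he⟩ := hYn f hf
    exact ⟨e, he a⟩
  let W := Y⟦a - t⟧
  haveI hYge : Y.IsGE a := (DerivedCategory.isGE_iff Y a).2 fun i hi => (subsingleton_ext_iff Y i).1 (hlow i hi)
  haveI : W.IsGE t := DerivedCategory.TStructure.t.isGE_shift Y a (a - t) t (by omega)
  obtain ⟨W₁, W₂, hW₁, hW₂, ι, p, d, hTW⟩ := DerivedCategory.TStructure.t.exists_triangle W t (t + 1) rfl
  haveI : W₁.IsLE t := ⟨hW₁⟩
  haveI : W₂.IsGE (t + 1) := ⟨hW₂⟩
  haveI : W₁.IsGE t := (DerivedCategory.isGE_iff W₁ t).2 fun i hi =>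
    ShortComplex.Exact.isZero_of_both_zeros (DerivedCategory.HomologySequence.exact₂ _ hTW i |> fun h => by
      exact (DerivedCategory.HomologySequence.exact₁ _ hTW (i - 1) i (by omega)))
      ((DerivedCategory.isZero_of_isGE W₂ (t + 1) (i - 1) (by omega)).eq_of_src _ _)
      ((DerivedCategory.isZero_of_isGE W t i hi).eq_of_tgt _ _)
  haveI : IsIso ((hH R t).map ι) := by
    have hm : Mono ((hH R t).map ι) :=
      (DerivedCategory.HomologySequence.mono_homologyMap_mor₁_iff _ hTW (t - 1) t (by omega)).mpr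
        ((DerivedCategory.isZero_of_isGE W₂ (t + 1) (t - 1) (by omega)).eq_of_src _ _)
    have he : Epi ((hH R t).map ι) :=
      ((DerivedCategory.HomologySequence.epi_homologyMap_mor₁_iff _ hTW t).mpr
        ((DerivedCategory.isZero_of_isGE W₂ (t + 1) t (by omega)).eq_of_tgt _ _))
    exact isIso_of_mono_of_epi _
  obtain ⟨M, ⟨eM⟩⟩ := DerivedCategory.exists_iso_singleFunctor_obj_of_isGE_of_isLE W₁ t
  let eH : (hH R a).obj Y ≅ M :=
    (((DerivedCategory.homologyFunctor (ModuleCat.{u} R) 0).shiftIso (a - t) t a (by omega)).app Y).symm ≪≫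
      (asIso ((hH R t).map ι)).symm ≪≫ (hH R t).mapIso eM ≪≫ DTenLib.Point.sgH M t
  let m₀ : M := eH.hom.hom (extHL Y a x)
  have hm₀ : m₀ ≠ 0 := fun h => hx ((extHL Y a).injective (by
    rw [map_zero]
    exact eH.toLinearEquiv.injective (h.trans (map_zero _).symm)))
  have hkill : I ≤ LinearMap.ker (LinearMap.toSpanSingleton R M m₀) := by
    rw [hI, Ideal.span_le]
    intro f hf
    show f • m₀ = 0
    show f • eH.toLinearEquiv (extHL Y a x) = 0
    rw [← map_smul, ← map_smul, hxk f hf, map_zero, map_zero]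
  obtain ⟨C', C'', hC', hC'', α, β, γ, hTC⟩ := DerivedCategory.TStructure.t.exists_triangle C (t - 1) t (by omega)
  haveI : C'.IsLE (t - 1) := ⟨hC'⟩
  haveI : C''.IsGE t := ⟨hC''⟩
  haveI : C''.IsLE t := (DerivedCategory.isLE_iff C'' t).2 fun i hi =>
    ShortComplex.Exact.isZero_of_both_zeros (DerivedCategory.HomologySequence.exact₃ _ hTC i (i + 1) rfl)
      ((ht i hi).eq_of_src _ _)
      ((DerivedCategory.isZero_of_isLE C' (t - 1) (i + 1) (by omega)).eq_of_tgt _ _)
  haveI : IsIso ((hH R t).map β) := by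
    have hm : Mono ((hH R t).map β) :=
      (DerivedCategory.HomologySequence.mono_homologyMap_mor₂_iff _ hTC t).mpr
        ((DerivedCategory.isZero_of_isLE C' (t - 1) t (by omega)).eq_of_src _ _)
    have he : Epi ((hH R t).map β) :=
      (DerivedCategory.HomologySequence.epi_homologyMap_mor₂_iff _ hTC t (t + 1) rfl).mpr
        ((DerivedCategory.isZero_of_isLE C' (t - 1) (t + 1) (by omega)).eq_of_tgt _ _)
    exact isIso_of_mono_of_epi _
  obtain ⟨T₀, ⟨eT⟩⟩ := DerivedCategory.exists_iso_singleFunctor_obj_of_isGE_of_isLE C'' t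
  let eTH : (hH R t).obj C ≅ T₀ := asIso ((hH R t).map β) ≪≫ (hH R t).mapIso eT ≪≫ DTenLib.Point.sgH T₀ t
  let φ : T₀ ⟶ M := ModuleCat.ofHom (((I.liftQ (LinearMap.toSpanSingleton R M m₀) hkill).comp ψ).comp eTH.toLinearEquiv.symm.toLinearMap)
  have hφ : φ ≠ 0 := fun h => by
    obtain ⟨z, hz⟩ := hψ (Ideal.Quotient.mk I 1)
    have h2 := LinearMap.congr_fun (congrArg ModuleCat.Hom.hom h) (eTH.toLinearEquiv z)
    change I.liftQ (LinearMap.toSpanSingleton R M m₀) hkill (ψ (eTH.toLinearEquiv.symm (eTH.toLinearEquiv z))) = 0 at h2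
    rw [LinearEquiv.symm_apply_apply, hz] at h2
    exact hm₀ ((one_smul R m₀).symm.trans h2)
  let F := DerivedCategory.singleFunctor (ModuleCat.{u} R) t
  refine hφ (F.map_injective ?_)
  rw [Functor.map_zero]
  let u₀ : C'' ⟶ W := eT.hom ≫ F.map φ ≫ eM.inv ≫ ι
  have h0 : β ≫ u₀ = 0 := (hYC C hv (a - t)).elim _ _
  obtain ⟨z, hz⟩ := (Triangle.mk α β γ).yoneda_exact₃ hTC u₀ h0
  haveI : (C'⟦(1 : ℤ)⟧).IsLE (t - 2) := DerivedCategory.TStructure.t.isLE_shift C' (t - 1) 1 (t - 2) (by omega)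
  change u₀ = γ ≫ z at hz
  have hu : u₀ = 0 := by
    rw [hz, show z = 0 from DerivedCategory.TStructure.t.zero_of_isLE_of_isGE (X := C'⟦(1 : ℤ)⟧) (Y := W) z (t - 2) t (by omega) inferInstance inferInstance]
    exact comp_zero
  obtain ⟨w', hw⟩ := (Triangle.mk ι p d).invRotate.coyoneda_exact₂ (inv_rot_of_distTriang _ hTW) (eT.hom ≫ F.map φ ≫ eM.inv)
    (by
      show (eT.hom ≫ F.map φ ≫ eM.inv) ≫ ι = 0
      rw [Category.assoc, Category.assoc]
      exact hu)
  haveI : (W₂⟦(-1 : ℤ)⟧).IsGE (t + 2) := DerivedCategory.TStructure.t.isGE_shift W₂ (t + 1) (-1) (t + 2) (by omega)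
  have hw0 : (w' : C'' ⟶ W₂⟦(-1 : ℤ)⟧) = 0 :=
    DerivedCategory.TStructure.t.zero_of_isLE_of_isGE (X := C'') (Y := W₂⟦(-1 : ℤ)⟧) w' t (t + 2) (by omega) inferInstance inferInstance
  have h3 : eT.hom ≫ F.map φ ≫ eM.inv = 0 :=
    hw.trans ((congrArg (fun q => CategoryStruct.comp q (Triangle.mk ι p d).invRotate.mor₁) hw0).trans zero_comp)
  rw [← cancel_mono eM.inv, ← cancel_epi eT.hom, h3, zero_comp, comp_zero]

/-- A pseudo-coherent object without maps to shifts of the unit is zero. -/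
theorem isZero_of_vanish {C : Dual.D R} (hC : DRing.IsPseudoCoherent' R C)
    (hv : Vanish C (sg (ModuleCat.of R R) 0)) (i : ℤ) : IsZero ((hH R i).obj C) := by
  obtain ⟨E, b, hb, hf, ⟨e⟩⟩ := id hC
  suffices ∀ (k : ℕ) (i : ℤ), b - k < i → IsZero ((hH R i).obj C) from this (b - i + 1).toNat i (by omega)
  intro k
  induction k with
  | zero =>
    intro i hi
    exact (DRingLib.isZero_Hn_of_homology ((HomologicalComplex.exactAt_iff_isZero_homology _ i).1
      (ShortComplex.exact_of_isZero_X₂ _ (hb i (by omega))))).of_iso ((hH R i).mapIso e).symm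
  | succ k ih =>
    intro i hi
    rcases (show b - k < i ∨ i = b - k by omega) with h | h
    · exact ih i h
    · exact isZero_top hC hv i fun j hj => ih j (by omega)

end RelDualRingLib

end
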