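import Groth.Agent.ShriekRingLib.DualBase
import Groth.Agent.S6956
import Groth.Agent.S6940
import Groth.Agent.RelDualRingLib.Reflex
import Groth.Agent.ShriekRingLib.SelfDual

/-!
# Biduality with respect to the couniversal object of the unit
-/

set_option autoImplicit false
set_option linter.all false
set_option maxHeartbeats 1000000

universe u

open CategoryTheory CategoryTheory.Limits CategoryTheory.Pretriangulated MonoidalCategory Opposite
open Groth.Agent DTen DTenLib
open Groth.Agent.TwoTermLib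
open DTenLib.Point (hH sg)

attribute [local instance] HasDerivedCategory.standard

noncomputable section

namespace RelDualRingLib

open FinDualLib Groth.Agent.DualCxLib TorIndBCLib ShriekRingLib

section Res

variable {P A : Type u} [CommRing P] [CommRing A] [HasLTen P] [HasLTen A] [HasLTen₃ P] [HasLTen₃ A]
  [IsSymMonoidal P] [IsSymMonoidal A] (f : P →+* A) [HasLBase f] [HasResTen f] [ResLegIso f]

/-- The projection formula, naturally in the object over the smaller ring. -/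
def projNatIso' (L : Dual.D A) :
    (LBase f ⋙ tensorRightD A L) ⋙ DRing.restrictD f ≅ tensorRightD P ((DRing.restrictD f).obj L) :=
  NatIso.ofComponents (fun V => haveI := isIso_projPF f L V
    (DRing.restrictD f).mapIso ((asIso (symm A)).app (L, (LBase f).obj V)) ≪≫ (asIso (projPF f L V)).symm ≪≫
      (asIso (symm P)).app (V, (DRing.restrictD f).obj L)) fun {V V'} g => by
    haveI := isIso_projPF f L V
    haveI := isIso_projPF f L V'
    have hA := (symm A).naturality (Prod.mkHom (𝟙 L) ((LBase f).map g))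
    have hP := (symm P).naturality (Prod.mkHom g (𝟙 ((DRing.restrictD f).obj L)))
    have hpf := projPF_naturality f (𝟙 L) g
    rw [CategoryTheory.Functor.map_id] at hpf
    have hpf' : (DRing.restrictD f).map ((LTen₂ A).map (Prod.mkHom (𝟙 L) ((LBase f).map g))) ≫ inv (projPF f L V') =
        inv (projPF f L V) ≫ (LTen₂ P).map (Prod.mkHom (𝟙 ((DRing.restrictD f).obj L)) g) := by
      rw [IsIso.eq_inv_comp, ← Category.assoc, IsIso.comp_inv_eq]
      exact hpf.symm
    show (DRing.restrictD f).map ((LTen₂ A).map (Prod.mkHom ((LBase f).map g) (𝟙 L))) ≫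
        (DRing.restrictD f).map ((symm A).app (L, (LBase f).obj V')) ≫ inv (projPF f L V') ≫
          (symm P).app (V', (DRing.restrictD f).obj L) =
      ((DRing.restrictD f).map ((symm A).app (L, (LBase f).obj V)) ≫ inv (projPF f L V) ≫
          (symm P).app (V, (DRing.restrictD f).obj L)) ≫
        (LTen₂ P).map (Prod.mkHom g (𝟙 ((DRing.restrictD f).obj L)))
    rw [← Functor.map_comp_assoc]
    refine (congrArg (fun t => (DRing.restrictD f).map t ≫ _) hA).trans ?_
    rw [Functor.map_comp, Category.assoc, Category.assoc, Category.assoc]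
    refine congrArg (_ ≫ ·) ?_
    refine ((Category.assoc _ _ _).symm.trans (congrArg (· ≫ _) hpf')).trans ?_
    rw [Category.assoc]
    exact congrArg (_ ≫ ·) hP

variable [HasRHom P] [HasRHom A]

/-- Restriction exchanges `RHom` into a coinduced object. -/
theorem nonempty_res_RHom {G : Dual.D P ⥤ Dual.D A} (adj : DRing.restrictD f ⊣ G) (L : Dual.D A) (M : Dual.D P) :
    Nonempty ((DRing.restrictD f).obj ((RHomR A L).obj (G.obj M)) ≅
      (RHomR P ((DRing.restrictD f).obj L)).obj M) :=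
  ⟨(((((baseAdj f).comp (rhomAdj A L)).comp adj).ofNatIsoLeft (projNatIso' f L)).rightAdjointUniq
    (rhomAdj P ((DRing.restrictD f).obj L))).app M⟩

end Res

section Unit

variable {A : Type u} [CommRing A] [HasLTen A] [HasLTen₃ A] [IsSymMonoidal A] [HasRHom A]

theorem nonempty_RHom_self' {ω : Dual.D A} (h₀ : Function.Bijective fun a : A => a • 𝟙 ω)
    (h₁ : ∀ i : ℤ, i ≠ 0 → Subsingleton (ω ⟶ ω⟦i⟧)) : Nonempty (unit A ≅ (RHomR A ω).obj ω) := by
  let l : (LTen₂ A).obj (unit A, ω) ≅ ω := DTen.leftUnitor ω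
  let u : unit A ⟶ (RHomR A ω).obj ω := homLEquiv _ _ _ l.hom
  suffices IsIso u from ⟨asIso u⟩
  refine isIso_of_bijective_unit u fun j => ?_
  by_cases hj : j = 0
  · subst hj
    let z : (unit A)⟦(0 : ℤ)⟧ ≅ unit A := (shiftFunctorZero (Dual.D A) ℤ).app _
    let Φ : (unit A ⟶ (RHomR A ω).obj ω) ≃ₗ[A] (ω ⟶ ω) :=
      (homLEquiv _ _ _).symm.trans (precompL l ω)
    have hΦ : Φ u = 𝟙 ω := by simp [Φ, u, precompL, Linear.homCongr_apply]
    refine ⟨fun g g' h => ?_, fun h => ?_⟩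
    · obtain ⟨r, hr⟩ := exists_smul_of_endo_unit (z.inv ≫ g)
      obtain ⟨r', hr'⟩ := exists_smul_of_endo_unit (z.inv ≫ g')
      have h' : r • u = r' • u := by
        have := congrArg (z.inv ≫ ·) h
        simpa only [← Category.assoc, hr, hr', Linear.smul_comp, Category.id_comp] using this
      have h'' := congrArg Φ h'
      rw [map_smul, map_smul, hΦ] at h''
      rw [← cancel_epi z.inv, hr, hr', h₀.1 h'']
    · obtain ⟨r, hr⟩ := h₀.2 (Φ (z.inv ≫ h))
      refine ⟨z.hom ≫ (r • 𝟙 (unit A)), ?_⟩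
      have : r • u = z.inv ≫ h := Φ.injective (by rw [map_smul, hΦ]; exact hr)
      show (z.hom ≫ (r • 𝟙 (unit A))) ≫ u = h
      rw [Category.assoc, Linear.smul_comp, Category.id_comp, this, Iso.hom_inv_id_assoc]
  · haveI h1 : Subsingleton ((unit A)⟦j⟧ ⟶ unit A) := subsingleton_of_forall_eq 0
      (hom_shift_unit_eq_zero (K := 𝟙_ (DRing.Cx A))
        (HomologicalComplex.isZero_single_obj_X (ComplexShape.up ℤ) 0 _ _ (by omega)))
    haveI h2 : Subsingleton ((unit A)⟦j⟧ ⟶ (RHomR A ω).obj ω) := by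
      obtain ⟨e⟩ := nonempty_tensor_shiftUnit ω j
      haveI := h₁ (-j) (by omega)
      haveI : Subsingleton (ω⟦j⟧ ⟶ ω) :=
        (precompL (eqToIso (by rw [neg_neg])) ω).symm.toEquiv.subsingleton_congr.2
          ((shiftL ω ω (-j)).toEquiv.subsingleton_congr.2 inferInstance)
      exact ((homLEquiv _ _ _).symm.trans (precompL e ω)).toEquiv.subsingleton_congr.2 inferInstance
    exact ⟨fun g g' _ => Subsingleton.elim g g', fun h => ⟨0, Subsingleton.elim _ _⟩⟩

/-- Perfect objects are biduals with respect to shifts of the unit. -/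
theorem nonempty_bidual_shiftUnit {F : Dual.D A} (hF : DRing.IsPerfect A F) (n : ℤ) :
    Nonempty ((RHomR A ((RHomR A F).obj ((unit A)⟦n⟧))).obj ((unit A)⟦n⟧) ≅ F) := by
  obtain ⟨a⟩ := nonempty_RHom_shiftUnit ((unit A)⟦n⟧) (-n)
  let u : unit A ≅ (RHomR A ((unit A)⟦n⟧)).obj ((unit A)⟦n⟧) :=
    ((shiftFunctorCompIsoId (Dual.D A) n (-n) (by omega)).app (unit A)).symm ≪≫ a ≪≫
      eqToIso (congrArg (fun j : ℤ => (RHomR A ((unit A)⟦j⟧)).obj ((unit A)⟦n⟧)) (neg_neg n))
  haveI := isIso_evalHom_of_isPerfect F ((unit A)⟦n⟧) ((unit A)⟦n⟧) hF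
  exact ⟨(asIso (evalHom F ((unit A)⟦n⟧) ((unit A)⟦n⟧))).symm ≪≫ (tensorRightD A F).mapIso u.symm ≪≫ DTen.leftUnitor F⟩

theorem isPerfect_RHom_shiftUnit {F : Dual.D A} (hF : DRing.IsPerfect A F) (n : ℤ) :
    DRing.IsPerfect A ((RHomR A F).obj ((unit A)⟦n⟧)) := by
  obtain ⟨E, a, b, hb, hp, ⟨e⟩⟩ := hF
  obtain ⟨e₁⟩ := nonempty_RHom_unit_iso hb hp
  obtain ⟨s⟩ := nonempty_RHom_shift_iso (X := F) (unit A) n
  exact DRingLib.isPerfect_of_iso
    ((shiftFunctor _ n).mapIso (e₁.symm ≪≫ (((RHom A).mapIso e.symm.op).app (unit A))) ≪≫ s.symm)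
    (DRingLib.isPerfect_shift ⟨_, _, _, RHomEval.vanishes_dual E hb, RHomEval.finite_projective_dual E hp, ⟨Iso.refl _⟩⟩ n)

end Unit

section Main

variable {P A : Type u} [CommRing P] [CommRing A] [Algebra P A]
  [HasLTen P] [HasLTen A] [HasLTen₃ P] [HasLTen₃ A] [IsSymMonoidal P] [IsSymMonoidal A] [HasRHom P] [HasRHom A]
  {G : Dual.D P ⥤ Dual.D A}

/-- Duality into the coinduced shifted unit preserves perfection of the restriction. -/
theorem nonempty_res_dual (adj : DRing.restrictD (algebraMap P A) ⊣ G) (n : ℤ) (X : Dual.D A) :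
    Nonempty ((DRing.restrictD (algebraMap P A)).obj ((RHomR A X).obj (G.obj ((unit P)⟦n⟧))) ≅
      (RHomR P ((DRing.restrictD (algebraMap P A)).obj X)).obj ((unit P)⟦n⟧)) := by
  haveI := hasLBase (algebraMap P A)
  haveI := hasResTen (algebraMap P A)
  haveI := resLegIso (algebraMap P A)
  exact nonempty_res_RHom (algebraMap P A) adj X _

theorem nonempty_res_bidual (adj : DRing.restrictD (algebraMap P A) ⊣ G) (n : ℤ) (X : Dual.D A)
    (hX : DRing.IsPerfect P ((DRing.restrictD (algebraMap P A)).obj X)) :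
    Nonempty ((DRing.restrictD (algebraMap P A)).obj
      ((RHomR A ((RHomR A X).obj (G.obj ((unit P)⟦n⟧)))).obj (G.obj ((unit P)⟦n⟧))) ≅
      (DRing.restrictD (algebraMap P A)).obj X) := by
  obtain ⟨e₁⟩ := nonempty_res_dual adj n ((RHomR A X).obj (G.obj ((unit P)⟦n⟧)))
  obtain ⟨e₂⟩ := nonempty_res_dual adj n X
  obtain ⟨e₃⟩ := nonempty_bidual_shiftUnit hX n
  exact ⟨e₁ ≪≫ ((RHom P).mapIso e₂.symm.op).app ((unit P)⟦n⟧) ≪≫ e₃⟩

theorem isLE_of_res_iso {X Y : Dual.D A}
    (e : (DRing.restrictD (algebraMap P A)).obj X ≅ (DRing.restrictD (algebraMap P A)).obj Y) {p : ℤ}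
    (hY : Y.IsLE p) : X.IsLE p := by
  refine (DerivedCategory.isLE_iff X p).2 fun i hi => ?_
  let h := DerLib.ExactHomology.homologyIso (ModuleCat.restrictScalars.{u} (algebraMap P A)) i
  have hz : IsZero ((ModuleCat.restrictScalars.{u} (algebraMap P A)).obj ((hH A i).obj X)) :=
    ((ModuleCat.restrictScalars.{u} (algebraMap P A)).map_isZero (DerivedCategory.isZero_of_isLE Y p i hi)).of_iso
      ((h.app X).symm ≪≫ (hH P i).mapIso e ≪≫ h.app Y)
  haveI := ModuleCat.subsingleton_of_isZero hz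
  exact @ModuleCat.isZero_of_subsingleton _ _ _
    (inferInstanceAs (Subsingleton ((ModuleCat.restrictScalars.{u} (algebraMap P A)).obj ((hH A i).obj X))))

/-- Biduality for objects perfect over the smaller ring. -/
theorem isIso_evalHom (adj : DRing.restrictD (algebraMap P A) ⊣ G) (n : ℤ) (hA : DRing.IsPerfectModule P A)
    (u : unit A ≅ (RHomR A (G.obj ((unit P)⟦n⟧))).obj (G.obj ((unit P)⟦n⟧))) {X : Dual.D A}
    (hpc : DRing.IsPseudoCoherent' A X) (hX : DRing.IsPerfect P ((DRing.restrictD (algebraMap P A)).obj X)) :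
    IsIso (evalHom X (G.obj ((unit P)⟦n⟧)) (G.obj ((unit P)⟦n⟧))) := by
  let K := G.obj ((unit P)⟦n⟧)
  let F := (LTen A).obj ((RHomR A K).obj K)
  let H := ((RHom A).flip.obj K).rightOp ⋙ (RHom A).flip.obj K
  have hF : HomExact F := homExact_LTen_obj _
  have hG : HomExact H := fun T hT => HomExactOp.map_isTri (F := (RHom A).flip.obj K)
    (fun T' hT' => homExact_id.map_isTri (isTri_RHom K T' hT')) (isTri_RHom K T hT)
  let τ : F ⟶ H := evalHomNat K K
  refine isIso_of_bijective_unit _ fun j => ?_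
  show Function.Bijective fun g : (unit A)⟦j⟧ ⟶ F.obj X => g ≫ τ.app X
  let m : ℤ := -j - 1
  obtain ⟨E, c, d, α, hE, hfree, hiso, hepi⟩ :=
    Groth.Agent.DRingLib.isPseudoCoherent'_iff_forall.1 hpc m
  obtain ⟨C, g, h, hT⟩ := Pretriangulated.distinguished_cocone_triangle α
  let T := Triangle.mk α g h
  let res := DRing.restrictD (algebraMap P A)
  have hEp : DRing.IsPerfect A (DRing.toD E) := ⟨E, c, d, hE, fun i =>
    haveI := (hfree i).2
    ⟨(hfree i).1, inferInstance⟩, ⟨Iso.refl _⟩⟩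
  have hCp : DRing.IsPerfect P (res.obj C) :=
    DRingLib.isPerfect_obj₃ _ (res.map_distinguished T hT) (Groth.Agent.S6956.result hA _ hEp) hX
  have hCp' : DRing.IsPerfect P (res.obj (C⟦(-1 : ℤ)⟧)) :=
    DRingLib.isPerfect_of_iso ((res.commShiftIso (-1 : ℤ)).app C).symm (DRingLib.isPerfect_shift hCp (-1))
  have hC : DerivedCategory.IsLE C (m - 1) := (DerivedCategory.isLE_iff C (m - 1)).2 fun i hi =>
    (Groth.Agent.DRingLib.Approx.iff_cone m T hT).1 ⟨hiso, hepi⟩ i (by omega)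
  have hC' : DerivedCategory.IsLE (C⟦(-1 : ℤ)⟧) m :=
    DerivedCategory.TStructure.t.isLE_shift C (m - 1) (-1) m (by omega)
  have hGle : ∀ (Y : Dual.D A) (p : ℤ), DerivedCategory.IsLE Y p → p ≤ m →
      DRing.IsPerfect P (res.obj Y) → ∀ x : (unit A)⟦j⟧ ⟶ H.obj Y, x = 0 := fun Y p hY hp hYp x => by
    obtain ⟨e⟩ := nonempty_res_bidual adj n Y hYp
    exact hom_shift_unit_eq_zero_of_isLE (b := p) (isLE_of_res_iso e hY) (by omega) x
  have hFC : ∀ x : (unit A)⟦j⟧ ⟶ F.obj C, x = 0 := fun x => by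
    let eX : F.obj C ≅ C := (tensorRightD A C).mapIso u.symm ≪≫ DTen.leftUnitor C
    rw [← cancel_mono eX.hom, zero_comp]
    exact hom_shift_unit_eq_zero_of_isLE hC (by omega) _
  haveI hτE : IsIso (τ.app (DRing.toD E)) := isIso_evalHom_of_isPerfect _ K K hEp
  constructor
  · intro z z' hzz
    rw [← sub_eq_zero]
    have hz : (z - z') ≫ τ.app X = 0 := by
      rw [Preadditive.sub_comp, sub_eq_zero]
      exact hzz
    obtain ⟨x, hx⟩ := (hF T hT).2 _ (z - z') (hFC _)
    change x ≫ F.map α = z - z' at hx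
    have hx' : (x ≫ τ.app _) ≫ H.map α = 0 := by
      rw [Category.assoc, ← τ.naturality, ← Category.assoc, hx, hz]
    obtain ⟨w, hw⟩ := (hG _ (inv_rot_of_distTriang _ hT)).2 _ (x ≫ τ.app _) hx'
    have hxE : x ≫ τ.app (DRing.toD E) = 0 := hw.symm.trans
      ((congrArg (fun t => CategoryStruct.comp t (H.map T.invRotate.mor₁)) (hGle _ m hC' le_rfl hCp' w)).trans zero_comp)
    have hx0 : x = 0 := (cancel_mono (τ.app (DRing.toD E))).1 (hxE.trans zero_comp.symm)
    rw [← hx, hx0, zero_comp]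
  · intro y
    obtain ⟨x, hx⟩ : ∃ x : (unit A)⟦j⟧ ⟶ H.obj (DRing.toD E), x ≫ H.map α = y :=
      (hG T hT).2 _ y (hGle C (m - 1) hC (by omega) hCp _)
    obtain ⟨i, -, hi⟩ := hτE.out
    refine ⟨(x ≫ i) ≫ F.map α, ?_⟩
    show (_ ≫ F.map α) ≫ τ.app X = y
    rw [Category.assoc, τ.naturality, Category.assoc, reassoc_of% hi, hx]

end Main

section Reflexive

variable {A : Type u} [CommRing A] [HasLTen A] [HasLTen₃ A] [IsSymMonoidal A] [HasRHom A]

/-- A pseudo-coherent object with dual the unit is the unit. -/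
theorem nonempty_iso_unit_of_dual {T : Dual.D A} (hT : DRing.IsPseudoCoherent' A T)
    (e : unit A ≅ (RHomR A T).obj (unit A)) : Nonempty (T ≅ unit A) := by
  let Φ : ((unit A ⟶ unit A)) ≃ₗ[A] (T ⟶ unit A) :=
    (postcompL _ e).trans ((homLEquiv _ _ _).symm.trans (precompL (DTen.leftUnitor T) _))
  let v := Φ (𝟙 _)
  obtain ⟨C, g, w, hTr⟩ := Pretriangulated.distinguished_cocone_triangle v
  obtain ⟨eu⟩ := nonempty_unit_iso (A := A)
  have hbij : ∀ i : ℤ, Function.Bijective fun q : unit A ⟶ (unit A)⟦i⟧ => v ≫ q := fun i => by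
    by_cases hi : i = 0
    · subst hi
      let z : (unit A)⟦(0 : ℤ)⟧ ≅ unit A := (shiftFunctorZero (Dual.D A) ℤ).app _
      have h0 : ∀ q : unit A ⟶ unit A, v ≫ q = Φ q := fun q => by
        obtain ⟨r, rfl⟩ := exists_smul_of_endo_unit q
        rw [map_smul, Linear.comp_smul, Category.comp_id]
      refine ⟨fun q q' h => ?_, fun y => ⟨Φ.symm (y ≫ z.hom) ≫ z.inv, ?_⟩⟩
      · have h1 : Φ (q ≫ z.hom) = Φ (q' ≫ z.hom) := by
          rw [← h0, ← h0, ← Category.assoc, ← Category.assoc]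
          exact congrArg (· ≫ z.hom) h
        exact (cancel_mono z.hom).1 (Φ.injective h1)
      · show v ≫ _ ≫ z.inv = y
        rw [← Category.assoc, h0, LinearEquiv.apply_symm_apply, Category.assoc, z.hom_inv_id, Category.comp_id]
    · haveI hS : Subsingleton ((unit A)⟦-i⟧ ⟶ unit A) := subsingleton_of_forall_eq 0
        (hom_shift_unit_eq_zero (K := 𝟙_ (DRing.Cx A))
          (HomologicalComplex.isZero_single_obj_X (ComplexShape.up ℤ) 0 _ _ (by omega)))
      haveI h1 : Subsingleton (unit A ⟶ (unit A)⟦i⟧) := (shiftL (unit A) (unit A) i).symm.toEquiv.subsingleton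
      haveI : Subsingleton ((unit A)⟦-i⟧ ⟶ (RHomR A T).obj (unit A)) := (postcompL _ e).symm.toEquiv.subsingleton
      obtain ⟨t⟩ := nonempty_tensor_shiftUnit T (-i)
      haveI : Subsingleton (T⟦-i⟧ ⟶ unit A) :=
        ((precompL t.symm _).trans (homLEquiv _ _ _)).toEquiv.subsingleton
      haveI : Subsingleton (T ⟶ (unit A)⟦i⟧) := (shiftL T (unit A) i).symm.toEquiv.subsingleton
      exact ⟨fun q q' _ => Subsingleton.elim q q', fun y => ⟨0, Subsingleton.elim _ _⟩⟩
  have hv : Vanish C (unit A) := fun i => ⟨fun x x' => sub_eq_zero.1 (by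
    obtain ⟨q, hq⟩ := (Triangle.mk v g w).yoneda_exact₃ hTr (x - x') ((hbij i).1 (by
      show v ≫ g ≫ (x - x') = v ≫ 0
      rw [← Category.assoc, show v ≫ g = 0 from comp_distTriang_mor_zero₁₂ _ hTr, zero_comp, comp_zero]))
    let σ : (T⟦(1 : ℤ)⟧ ⟶ (unit A)⟦i⟧) → (T ⟶ (unit A)⟦i - 1⟧) := fun q =>
      (shiftFunctor (Dual.D A) (1 : ℤ)).preimage
        (q ≫ ((shiftFunctorAdd' (Dual.D A) (i - 1) 1 i (by omega)).app (unit A)).hom)
    obtain ⟨p, hp⟩ := (hbij (i - 1)).2 (σ q)
    have hq' : q = v⟦(1 : ℤ)⟧' ≫ p⟦(1 : ℤ)⟧' ≫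
        ((shiftFunctorAdd' (Dual.D A) (i - 1) 1 i (by omega)).app (unit A)).inv := by
      rw [← Functor.map_comp_assoc]
      change v ≫ p = σ q at hp
      rw [hp, Functor.map_preimage, Category.assoc, Iso.hom_inv_id, Category.comp_id]
    rw [hq, hq']
    exact (reassoc_of% (comp_distTriang_mor_zero₃₁ _ hTr)) _ |>.trans zero_comp)⟩
  have hvs : Vanish C (sg (ModuleCat.of A A) 0) := fun i =>
    @Equiv.subsingleton _ _ ((Iso.refl C).homCongr ((shiftFunctor (Dual.D A) i).mapIso eu)).symm (hv i)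
  have hu : DRing.IsPerfect A (unit A) := by
    refine ⟨𝟙_ (DRing.Cx A), 0, 0, fun i hi => HomologicalComplex.isZero_single_obj_X _ 0 _ _ (by omega), fun i => ?_, ⟨Iso.refl _⟩⟩
    rcases eq_or_ne i 0 with rfl | h
    · let ε : ((𝟙_ (DRing.Cx A)).X 0 : ModuleCat.{u} A) ≅ ModuleCat.of A A :=
        HomologicalComplex.singleObjXSelf (ComplexShape.up ℤ) 0 _
      exact ⟨Module.Finite.equiv ε.toLinearEquiv.symm, Module.Projective.of_equiv ε.toLinearEquiv.symm⟩
    · have hz : IsZero ((𝟙_ (DRing.Cx A)).X i) := HomologicalComplex.isZero_single_obj_X _ 0 _ _ h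
      haveI := DRingLib.free_of_isZero hz
      exact ⟨DRingLib.finite_of_isZero hz, inferInstance⟩
  have hCpc : DRing.IsPseudoCoherent' A C := DRingLib.isPseudoCoherent'_iff_forall.2 fun m =>
    DRingLib.isPseudoCoherent_obj₃ _ hTr m (DRingLib.isPseudoCoherent'_iff_forall.1 hT (m + 1))
      (DRingLib.isPseudoCoherent_of_isPerfect hu m)
  have hC0 : IsZero C := (IsZero.iff_id_eq_zero C).2 (DerivedCategory.TStructure.t.zero_of_isLE_of_isGE (𝟙 C) 0 1
    (by omega) ((DerivedCategory.isLE_iff C 0).2 fun i _ => isZero_of_vanish hCpc hvs i)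
    ((DerivedCategory.isGE_iff C 1).2 fun i _ => isZero_of_vanish hCpc hvs i))
  haveI : IsIso v := ((Triangle.mk v g w).isZero₃_iff_isIso₁ hTr).1 hC0
  exact ⟨asIso v⟩

end Reflexive

end RelDualRingLib
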