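import Groth.Agent.ShriekRingLib.FlatRelDual
import Groth.Agent.ShriekRingLib.FlatRange
import Groth.Agent.RelPerfLib.BaseChange
import Groth.Agent.S6940

/-!
# The canonical relative dualizing complex over an arbitrary base
-/

set_option autoImplicit false
set_option linter.all false
set_option maxHeartbeats 1000000

universe u

open CategoryTheory CategoryTheory.Limits
open Groth.Agent DTen
open scoped TensorProduct
open DTenLib.Point (hH sg)

attribute [local instance] HasDerivedCategory.standard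

noncomputable section

namespace RelDualRingLib

open FinDualLib Groth.Agent.DualCxLib TorIndBCLib ShriekRingLib

/-- The shifted couniversal object of the unit along a presentation. -/
def IsCanon (R A : Type u) [CommRing R] [CommRing A] [Algebra R A] (K : Dual.D A) : Prop :=
  ∃ (n : ℕ) (ψ : MvPolynomial (Fin n) R →ₐ[R] A) (W : Dual.D A)
    (δ : (DRing.restrictD ψ.toRingHom).obj W ⟶ unit (MvPolynomial (Fin n) R)),
    Function.Surjective ψ ∧ IsCoUniv ψ.toRingHom δ ∧ Nonempty (K ≅ W⟦(n : ℤ)⟧)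

theorem isPerfectModule_of_flat' (R : Type u) [CommRing R] (n : ℕ) (A : Type u) [CommRing A] [Algebra R A]
    [Algebra (MvPolynomial (Fin n) R) A] [IsScalarTower R (MvPolynomial (Fin n) R) A]
    [Algebra.FinitePresentation R A] [Module.Flat R A]
    (hsurj : Function.Surjective (algebraMap (MvPolynomial (Fin n) R) A)) :
    DRing.IsPerfectModule (MvPolynomial (Fin n) R) A := by
  haveI : Module.FinitePresentation (MvPolynomial (Fin n) R) A :=
    Module.finitePresentation_of_surjective (Algebra.linearMap (MvPolynomial (Fin n) R) A) hsurj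
      (Algebra.FinitePresentation.ker_fG_of_surjective
        (IsScalarTower.toAlgHom R (MvPolynomial (Fin n) R) A) hsurj)
  obtain ⟨d, hd⟩ := DiagLib.exists_FD_of_hasFiniteTorDim (PerfModLib.hasFiniteTorDim_of_flat (R := R) (M := A))
  exact PerfModLib.perfect_iff.2 ⟨PerfModLib.pcoh'_iff.1
      (PerfModLib.pcoh'_of_flat (A := R) (B := MvPolynomial (Fin n) R) A),
    CILib.hasFiniteTorDim_of_FD (PerfModLib.fd_mvPolynomial R n d A hd)⟩

theorem toEnd_bijective_shift' {A : Type u} [CommRing A] {W ω : Dual.D A} (n : ℤ) (e : ω ≅ W⟦n⟧)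
    (h : Function.Bijective fun a : A => a • 𝟙 W) : Function.Bijective fun a : A => a • 𝟙 ω := by
  let L : (W ⟶ W) ≃ₗ[A] (ω ⟶ ω) :=
    (LinearEquiv.ofBijective ((shiftFunctor (Dual.D A) n).mapLinearMap A)
      ⟨fun _ _ h => (shiftFunctor (Dual.D A) n).map_injective h,
        fun g => (shiftFunctor (Dual.D A) n).map_surjective g⟩).trans (Linear.homCongr A e.symm e.symm)
  have h1 : L (𝟙 W) = 𝟙 ω := by
    show Linear.homCongr A e.symm e.symm ((shiftFunctor (Dual.D A) n).map (𝟙 W)) = 𝟙 ω
    simp [Linear.homCongr_apply]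
  have h2 : (fun a : A => a • 𝟙 ω) = L ∘ fun a => a • 𝟙 W :=
    funext fun a => by rw [Function.comp_apply, map_smul, h1]
  rw [h2]
  exact L.bijective.comp h

theorem subsingleton_ext_shift' {A : Type u} [CommRing A] {W ω : Dual.D A} (n : ℤ) (e : ω ≅ W⟦n⟧) {i : ℤ}
    (h : Subsingleton (W ⟶ W⟦i⟧)) : Subsingleton (ω ⟶ ω⟦i⟧) :=
  ((e.homCongr ((shiftFunctor (Dual.D A) i).mapIso e ≪≫ (shiftFunctorComm (Dual.D A) n i).app W)).trans
    (Equiv.ofBijective _ ⟨(shiftFunctor (Dual.D A) n).map_injective, (shiftFunctor (Dual.D A) n).map_surjective⟩).symm).subsingleton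

variable (R A : Type u) [CommRing R] [CommRing A] [Algebra R A] [Module.Flat R A] [Algebra.FinitePresentation R A]

theorem exists_canon : ∃ K : Dual.D A, IsCanon R A K := by
  obtain ⟨n, ψ, hψ, -⟩ := Algebra.FinitePresentation.out (R := R) (A := A)
  obtain ⟨W, δ, hδ⟩ := FinDualLib.exists_coUniv ψ.toRingHom (unit (MvPolynomial (Fin n) R))
  exact ⟨W⟦(n : ℤ)⟧, n, ψ, W, δ, hψ, hδ, ⟨Iso.refl _⟩⟩

theorem toEnd {K : Dual.D A} (h : IsCanon R A K) :
    Function.Bijective (fun a : A => a • 𝟙 K) ∧ ∀ i : ℤ, i ≠ 0 → Subsingleton (K ⟶ K⟦i⟧) := by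
  obtain ⟨n, ψ, W, δ, hψ, hδ, ⟨e⟩⟩ := h
  letI : Algebra (MvPolynomial (Fin n) R) A := ψ.toRingHom.toAlgebra
  haveI : IsScalarTower R (MvPolynomial (Fin n) R) A := IsScalarTower.of_algebraMap_eq fun r => (ψ.commutes r).symm
  have hperf := isPerfectModule_of_flat' R n A hψ
  exact ⟨toEnd_bijective_shift' n e (ShriekRingLib.toEnd_bijective hψ hperf hδ),
    fun i hi => subsingleton_ext_shift' n e (subsingleton_hom_shift hperf hδ hi)⟩

/-- The restriction to the polynomial ring is perfect. -/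
theorem exists_perfect {K : Dual.D A} (h : IsCanon R A K) :
    ∃ (n : ℕ) (ψ : MvPolynomial (Fin n) R →ₐ[R] A), Function.Surjective ψ ∧
      DRing.IsPerfect (MvPolynomial (Fin n) R) ((DRing.restrictD ψ.toRingHom).obj K) := by
  obtain ⟨n, ψ, W, δ, hψ, hδ, ⟨e⟩⟩ := h
  letI : Algebra (MvPolynomial (Fin n) R) A := ψ.toRingHom.toAlgebra
  haveI : IsScalarTower R (MvPolynomial (Fin n) R) A := IsScalarTower.of_algebraMap_eq fun r => (ψ.commutes r).symm
  haveI := Groth.Agent.DualCxLib.hasLTen (MvPolynomial (Fin n) R)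
  haveI := Groth.Agent.DualCxLib.hasRHom (MvPolynomial (Fin n) R)
  exact ⟨n, ψ, hψ, DRingLib.isPerfect_of_iso
    ((((DRing.restrictD ψ.toRingHom).commShiftIso (n : ℤ)).app W).symm ≪≫ (DRing.restrictD ψ.toRingHom).mapIso e.symm)
    (DRingLib.isPerfect_shift (exists_dual (isPerfectModule_of_flat' R n A hψ) hδ).1 n)⟩

theorem isRelPerfect_of_perfect {K : Dual.D A} (n : ℕ) (ψ : MvPolynomial (Fin n) R →ₐ[R] A)
    (hψ : Function.Surjective ψ)
    (h : DRing.IsPerfect (MvPolynomial (Fin n) R) ((DRing.restrictD ψ.toRingHom).obj K)) :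
    Dual2.IsRelPerfect R A K := by
  letI : Algebra (MvPolynomial (Fin n) R) A := ψ.toRingHom.toAlgebra
  haveI : IsScalarTower R (MvPolynomial (Fin n) R) A := IsScalarTower.of_algebraMap_eq fun r => (ψ.commutes r).symm
  refine ⟨(Groth.Agent.S6940.result (PerfModLib.pcoh'_iff.2 (PerfModLib.perfect_iff.1
      (isPerfectModule_of_flat' R n A hψ)).1) K 0).2.2 (DRingLib.isPseudoCoherent'_iff_forall.2 ?_), ?_⟩
  · exact (DRingLib.isPerfect_iff.1 h).1
  · exact hasFiniteTorDimCx_of_perfect (algebraMap R (MvPolynomial (Fin n) R))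
      (RingHom.flat_algebraMap_iff.2 inferInstance) (algebraMap R A) ψ.comp_algebraMap h

end RelDualRingLib

namespace RelDualRingLib

open FinDualLib Groth.Agent.DualCxLib TorIndBCLib ShriekRingLib

attribute [local instance] MvPolynomial.algebraMvPolynomial

/-- Canonical objects are stable under base change. -/
theorem isCanon_pushout (R A R' A' : Type u) [CommRing R] [CommRing A] [CommRing R'] [CommRing A'] [Algebra R A]
    [Module.Flat R A] [Algebra.FinitePresentation R A] [Algebra R R'] [Algebra R A'] [Algebra A A'] [Algebra R' A']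
    [IsScalarTower R A A'] [IsScalarTower R R' A'] [Algebra.IsPushout R A R' A']
    {K : Dual.D A} (h : IsCanon R A K) {K' : Dual.D A'} {ηK : K ⟶ (DRing.restrictD (algebraMap A A')).obj K'}
    (hηK : IsUniv (algebraMap A A') ηK) : IsCanon R' A' K' := by
  obtain ⟨n, ψ, W, δ, hψ, hδ, ⟨e⟩⟩ := h
  let P := MvPolynomial (Fin n) R
  let P' := MvPolynomial (Fin n) R'
  letI : Algebra P A := ψ.toRingHom.toAlgebra
  haveI : IsScalarTower R P A := IsScalarTower.of_algebraMap_eq fun r => (ψ.commutes r).symm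
  let τ : P' →ₐ[R'] A' := MvPolynomial.aeval fun i => algebraMap A A' (ψ (MvPolynomial.X i))
  letI : Algebra P' A' := τ.toRingHom.toAlgebra
  letI : Algebra P A' := ((algebraMap A A').comp (algebraMap P A)).toAlgebra
  haveI : IsScalarTower P A A' := IsScalarTower.of_algebraMap_eq fun _ => rfl
  have hPA : ∀ r, algebraMap P A (MvPolynomial.C r) = algebraMap R A r := ψ.commutes
  haveI : IsScalarTower P P' A' := IsScalarTower.of_algebraMap_eq' (by
    refine MvPolynomial.ringHom_ext (fun r => ?_) fun i => ?_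
    · show algebraMap A A' (algebraMap P A (MvPolynomial.C r)) = τ (MvPolynomial.map (algebraMap R R') (MvPolynomial.C r))
      rw [hPA, MvPolynomial.map_C, ← IsScalarTower.algebraMap_apply R A A', IsScalarTower.algebraMap_apply R R' A']
      exact (MvPolynomial.aeval_C (R := R') (fun i => algebraMap A A' (ψ (MvPolynomial.X i))) _).symm
    · show algebraMap A A' (ψ (MvPolynomial.X i)) = τ (MvPolynomial.map (algebraMap R R') (MvPolynomial.X i))
      rw [MvPolynomial.map_X]
      exact (MvPolynomial.aeval_X (R := R') (fun i => algebraMap A A' (ψ (MvPolynomial.X i))) i).symm)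
  haveI : IsScalarTower R P P' := IsScalarTower.of_algebraMap_eq (R := R) (S := P) (A := P') fun r =>
    (MvPolynomial.map_C (algebraMap R R') r).symm
  haveI : IsScalarTower R' P' A' := IsScalarTower.of_algebraMap_eq fun r => (τ.commutes r).symm
  haveI : IsScalarTower R P' A' := IsScalarTower.of_algebraMap_eq fun r => by
    rw [IsScalarTower.algebraMap_apply R R' P', ← IsScalarTower.algebraMap_apply R' P' A',
      ← IsScalarTower.algebraMap_apply R R' A']
  haveI hpo : Algebra.IsPushout P A P' A' :=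
    (Algebra.IsPushout.comp_iff (T := A) (T' := A') R P R' P').1 inferInstance
  haveI : Algebra.IsPushout P P' A A' := hpo.symm
  haveI : Algebra.IsPushout R P R' P' := inferInstance
  haveI : Algebra.IsPushout R R' P P' := Algebra.IsPushout.symm inferInstance
  haveI : Algebra.IsPushout R R' A A' := Algebra.IsPushout.symm inferInstance
  have hti : TorInd P P' A := torInd_cancel R R' A P P' (torInd_of_flat R R' A) (torInd_of_flat R R' P)
  have hperf : DRing.IsPerfectModule P A := isPerfectModule_of_flat' R n A hψ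
  have hsurjP : Function.Surjective τ := fun x => by
    obtain ⟨w, rfl⟩ := (Algebra.IsPushout.equiv P P' A A').surjective x
    induction w using TensorProduct.induction_on with
    | zero => exact ⟨0, by rw [map_zero, map_zero]⟩
    | tmul s a =>
      obtain ⟨p, rfl⟩ := hψ a
      refine ⟨s * algebraMap P P' p, ?_⟩
      rw [Algebra.IsPushout.equiv_tmul, map_mul]
      exact congrArg _ ((IsScalarTower.algebraMap_apply P P' A' p).symm.trans (IsScalarTower.algebraMap_apply P A A' p))
    | add x y hx hy =>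
      obtain ⟨x', hx'⟩ := hx
      obtain ⟨y', hy'⟩ := hy
      exact ⟨x' + y', by rw [map_add, map_add, hx', hy']⟩
  obtain ⟨Z, ηZ, hηZ⟩ := exists_univ_any (algebraMap A A') W
  obtain ⟨V, ηV, hηV⟩ := exists_univ_any (algebraMap P P') (unit P)
  obtain ⟨eV⟩ := nonempty_univ_unit_iso (hηV.comp_iso (inDUnit P) (Iso.refl _))
  obtain ⟨ε', hε'⟩ := exists_coUniv_bc P P' A A' hti hperf hδ hηV hηZ
  obtain ⟨k, -⟩ := exists_iso_univ hηK ((isUniv_shift hηZ (n : ℤ)).comp_iso e (Iso.refl _))
  exact ⟨n, τ, Z, _, hsurjP, hε'.postcomp _ eV, ⟨k⟩⟩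

attribute [local instance] Algebra.TensorProduct.rightAlgebra

theorem isCanon_left (R A R' : Type u) [CommRing R] [CommRing A] [CommRing R'] [Algebra R A]
    [Module.Flat R A] [Algebra.FinitePresentation R A] [Algebra R R']
    [DRing.HasLBaseChange (Algebra.TensorProduct.includeLeftRingHom : A →+* A ⊗[R] R')]
    {K : Dual.D A} (h : IsCanon R A K) :
    ∃ (n : ℕ) (τ : MvPolynomial (Fin n) R' →+* A ⊗[R] R') (W : Dual.D (A ⊗[R] R'))
      (δ : (DRing.restrictD τ).obj W ⟶ unit (MvPolynomial (Fin n) R')),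
      (∀ r : R', τ (MvPolynomial.C r) = 1 ⊗ₜ r) ∧ IsCoUniv τ δ ∧
      Nonempty ((DRing.LBaseChange (Algebra.TensorProduct.includeLeftRingHom : A →+* A ⊗[R] R')).obj K ≅
        W⟦(n : ℤ)⟧) := by
  haveI : DRing.HasLBaseChange (algebraMap A (A ⊗[R] R')) :=
    ‹DRing.HasLBaseChange (Algebra.TensorProduct.includeLeftRingHom : A →+* A ⊗[R] R')›
  obtain ⟨η, hη⟩ := exists_univ_base (algebraMap A (A ⊗[R] R')) K
  obtain ⟨n, τ, W, δ, -, hδ, e⟩ := isCanon_pushout R A R' (A ⊗[R] R') h hη
  exact ⟨n, τ.toRingHom, W, δ, fun r => τ.commutes r, hδ, e⟩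

theorem isCanon_right (R A R' : Type u) [CommRing R] [CommRing A] [CommRing R'] [Algebra R A]
    [Module.Flat R A] [Algebra.FinitePresentation R A] [Algebra R R']
    [DRing.HasLBaseChange (Algebra.TensorProduct.includeRight : A →ₐ[R] R' ⊗[R] A).toRingHom]
    {K : Dual.D A} (h : IsCanon R A K) :
    IsCanon R' (R' ⊗[R] A)
      ((DRing.LBaseChange (Algebra.TensorProduct.includeRight : A →ₐ[R] R' ⊗[R] A).toRingHom).obj K) := by
  haveI : DRing.HasLBaseChange (algebraMap A (R' ⊗[R] A)) :=
    ‹DRing.HasLBaseChange (Algebra.TensorProduct.includeRight : A →ₐ[R] R' ⊗[R] A).toRingHom›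
  haveI : IsScalarTower R A (R' ⊗[R] A) := IsScalarTower.of_algebraMap_eq fun r =>
    (Algebra.TensorProduct.includeRight.commutes r).symm
  obtain ⟨η, hη⟩ := exists_univ_base (algebraMap A (R' ⊗[R] A)) K
  exact isCanon_pushout R A R' (R' ⊗[R] A) h hη

end RelDualRingLib

namespace RelDualRingLib

open FinDualLib Groth.Agent.DualCxLib TorIndBCLib ShriekRingLib

variable (R A : Type u) [CommRing R] [CommRing A] [Algebra R A] [Module.Flat R A] [Algebra.FinitePresentation R A]

/-- The rigidity of a canonical object. -/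
theorem rigid [DRing.HasLBaseChange (Algebra.TensorProduct.includeLeftRingHom : A →+* TensorProduct R A A)]
    {Rμ : Dual.D (TensorProduct R A A) ⥤ Dual.D A}
    (adjμ : DRing.restrictD (Algebra.TensorProduct.lmul' R (S := A)).toRingHom ⊣ Rμ)
    {K : Dual.D A} (h : IsCanon R A K) :
    Nonempty (Rμ.obj ((DRing.LBaseChange
      (Algebra.TensorProduct.includeLeftRingHom : A →+* TensorProduct R A A)).obj K) ≅ Dual.inD A A) := by
  have hc := isCanon_left R A A h
  obtain ⟨n, τ, W, δ, hτ, hδ, ⟨e⟩⟩ := hc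
  have h₂ := isCoUniv_of_adjunction (Algebra.TensorProduct.lmul' R (S := A)).toRingHom adjμ (W⟦(n : ℤ)⟧)
  obtain ⟨i⟩ : Nonempty (Rμ.obj (W⟦(n : ℤ)⟧) ≅ Dual.inD A A) := by
    refine nonempty_iso_inD_of_section n ((Algebra.TensorProduct.lmul' R (S := A)).toRingHom.comp τ)
      (RingHom.ext fun a => ?_) (isCoUniv_comp rfl (isCoUniv_shift hδ (n : ℤ)) h₂)
    show Algebra.TensorProduct.lmul' R (τ (MvPolynomial.C a)) = a
    rw [hτ, Algebra.TensorProduct.lmul'_apply_tmul, one_mul]
  exact ⟨Rμ.mapIso e ≪≫ i⟩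

/-- A canonical object is relatively dualizing. -/
theorem isRelDualizing [DRing.HasLBaseChange (Algebra.TensorProduct.includeLeftRingHom : A →+* TensorProduct R A A)]
    {Rμ : Dual.D (TensorProduct R A A) ⥤ Dual.D A}
    (adjμ : DRing.restrictD (Algebra.TensorProduct.lmul' R (S := A)).toRingHom ⊣ Rμ)
    {K : Dual.D A} (h : IsCanon R A K) : Dual2.IsRelDualizing R A Rμ K := by
  obtain ⟨n, ψ, hψ, hp⟩ := exists_perfect R A h
  exact ⟨isRelPerfect_of_perfect R A n ψ hψ hp, rigid R A adjμ h⟩

end RelDualRingLib
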