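import Groth.Agent.RelDualRingLib.Canon
import Groth.Agent.ShriekRingLib.Tensor

/-!
# Composition of canonical relative dualizing complexes
-/

set_option autoImplicit false
set_option linter.all false
set_option maxHeartbeats 1000000

universe u

open CategoryTheory CategoryTheory.Limits MonoidalCategory
open Groth.Agent DTen
open scoped TensorProduct

attribute [local instance] HasDerivedCategory.standard

noncomputable section

namespace RelDualRingLib

open FinDualLib Groth.Agent.DualCxLib TorIndBCLib ShriekRingLib DTenLib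

theorem torInd_of_flat_ext (R S A : Type u) [CommRing R] [CommRing S] [CommRing A] [Algebra R S] [Algebra R A]
    [Module.Flat R S] : TorInd R S A := fun Z _ =>
  FlatExtLib.isUniv_γ_flat ((resCx (algebraMap R A)).obj Z)

/-- The unit along a ring isomorphism. -/
theorem nonempty_res_unit {B C : Type u} [CommRing B] [CommRing C] (e : B ≃+* C) :
    Nonempty ((DRing.restrictD e.toRingHom).obj (unit C) ≅ unit B) := by
  let l : ((ModuleCat.restrictScalars.{u} e.toRingHom).obj (ModuleCat.of C C) : Type u) ≃ₗ[B] B :=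
    { toFun := fun c => e.symm c
      invFun := fun b => e b
      map_add' := fun x y => map_add e.symm x y
      map_smul' := fun b (c : C) => by
        show e.symm (e b * c) = b * e.symm c
        rw [map_mul, e.symm_apply_apply]
      left_inv := fun c => e.apply_symm_apply c
      right_inv := fun b => e.symm_apply_apply b }
  exact ⟨(DRing.restrictD e.toRingHom).mapIso (inDUnit C).symm ≪≫
    ((ModuleCat.restrictScalars.{u} e.toRingHom).mapDerivedCategorySingleFunctor 0).app (ModuleCat.of C C) ≪≫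
    (DerivedCategory.singleFunctor (ModuleCat.{u} B) 0).mapIso (l.toModuleIso) ≪≫ inDUnit B⟩

theorem nonempty_tensor_shift_left {A : Type u} [CommRing A] [HasLTen A] [HasLTen₃ A] [IsSymMonoidal A]
    (Z V : Dual.D A) (n : ℤ) : Nonempty ((LTen₂ A).obj (Z⟦n⟧, V) ≅ ((LTen₂ A).obj (Z, V))⟦n⟧) := by
  obtain ⟨s⟩ := nonempty_tensor_shift V Z n
  exact ⟨(DTen.braiding (Z⟦n⟧) V).symm ≪≫ s ≪≫ (shiftFunctor _ n).mapIso (DTen.braiding Z V)⟩

attribute [local instance] MvPolynomial.algebraMvPolynomial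

/-- Canonical objects compose. -/
theorem isCanon_comp (R A B : Type u) [CommRing R] [CommRing A] [CommRing B] [Algebra R A] [Algebra A B]
    [Algebra R B] [IsScalarTower R A B] [Module.Flat R A] [Algebra.FinitePresentation R A]
    [Module.Flat A B] [Algebra.FinitePresentation A B] [DRing.HasLBaseChange (algebraMap A B)]
    [HasLTen B] [HasLTen₃ B] [IsSymMonoidal B]
    {K : Dual.D A} (hK : IsCanon R A K) {L : Dual.D B} (hL : IsCanon A B L) :
    IsCanon R B ((LTen₂ B).obj ((DRing.LBaseChange (algebraMap A B)).obj K, L)) := by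
  obtain ⟨n, ψ, W, δ, hψ, hδ, ⟨eK⟩⟩ := hK
  obtain ⟨m, χ, V, ε, hχ, hε, ⟨eL⟩⟩ := hL
  let P := MvPolynomial (Fin n) R
  let Q := MvPolynomial (Fin m) A
  let P' := MvPolynomial (Fin m) P
  letI : Algebra P A := ψ.toRingHom.toAlgebra
  haveI : IsScalarTower R P A := IsScalarTower.of_algebraMap_eq fun r => (ψ.commutes r).symm
  haveI : IsScalarTower P P' Q := IsScalarTower.of_algebraMap_eq fun p => by
    show MvPolynomial.C (algebraMap P A p) = MvPolynomial.map (algebraMap P A) (MvPolynomial.C p)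
    rw [MvPolynomial.map_C]
  haveI : Algebra.IsPushout P A P' Q := inferInstance
  haveI : Algebra.IsPushout P P' A Q := Algebra.IsPushout.symm inferInstance
  have hperf : DRing.IsPerfectModule P A := isPerfectModule_of_flat' R n A hψ
  obtain ⟨Wy, ηW, hηW⟩ := exists_univ_any (algebraMap A Q) W
  obtain ⟨U, ηU, hηU⟩ := exists_univ_any (algebraMap P P') (unit P)
  obtain ⟨eU⟩ := nonempty_univ_unit_iso (hηU.comp_iso (inDUnit P) (Iso.refl _))
  obtain ⟨ε₁, hε₁⟩ := exists_coUniv_bc P P' A Q (torInd_of_flat_ext P P' A) hperf hδ hηU hηW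
  obtain ⟨⟨G, adj⟩⟩ := exists_rightAdjoint χ.toRingHom
  letI : Algebra Q B := χ.toRingHom.toAlgebra
  haveI : IsScalarTower A Q B := IsScalarTower.of_algebraMap_eq fun r => (χ.commutes r).symm
  have hperfB : DRing.IsPerfectModule Q B := isPerfectModule_of_flat' A m B hχ
  obtain ⟨Z, ηZ, hηZ⟩ := exists_univ_any χ.toRingHom Wy
  obtain ⟨eG⟩ := nonempty_iso_tensor χ.toRingHom (isPerfect_rU hperfB) adj hηZ
  obtain ⟨eV, -⟩ := FinDualLib.exists_iso _ (isCoUniv_of_adjunction χ.toRingHom adj (unit Q)) hε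
  have hcomp := isCoUniv_comp (θ := χ.toRingHom.comp (algebraMap P' Q)) rfl (hε₁.postcomp _ eU)
    (isCoUniv_of_adjunction χ.toRingHom adj Wy)
  let σ := ((MvPolynomial.renameEquiv R (finSumFinEquiv (m := m) (n := n)).symm).trans
    (MvPolynomial.sumAlgEquiv R (Fin m) (Fin n)))
  obtain ⟨eu⟩ := nonempty_res_unit σ.toRingEquiv
  have hσ := isCoUniv_comp (θ := (χ.toRingHom.comp (algebraMap P' Q)).comp σ.toRingEquiv.toRingHom) rfl
    (isCoUniv_of_iso σ.toRingEquiv eu) hcomp
  let τ : MvPolynomial (Fin (m + n)) R →ₐ[R] B :=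
    { toRingHom := (χ.toRingHom.comp (algebraMap P' Q)).comp σ.toRingEquiv.toRingHom
      commutes' := fun r => by
        show χ (MvPolynomial.map (algebraMap P A) (σ (algebraMap R _ r))) = algebraMap R B r
        rw [σ.commutes]
        show χ (MvPolynomial.map (algebraMap P A) (MvPolynomial.C (MvPolynomial.C r))) = algebraMap R B r
        rw [MvPolynomial.map_C, IsScalarTower.algebraMap_apply R A B, ← χ.commutes]
        exact congrArg (fun t => χ (MvPolynomial.C t)) (ψ.commutes r) }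
  have hτ : Function.Surjective τ :=
    (hχ.comp (MvPolynomial.map_surjective (algebraMap P A) hψ)).comp σ.surjective
  obtain ⟨η₀, hη₀⟩ := exists_univ_base (algebraMap A B) K
  obtain ⟨k, -⟩ := exists_iso_univ hη₀ ((isUniv_shift
    (isUniv_comp (θ := algebraMap A B) χ.comp_algebraMap hηW hηZ) (n : ℤ)).comp_iso eK (Iso.refl _))
  obtain ⟨s₁⟩ := nonempty_tensor_shift (Z⟦(n : ℤ)⟧) V (m : ℤ)
  obtain ⟨s₂⟩ := nonempty_tensor_shift_left Z V (n : ℤ)
  refine ⟨m + n, τ, G.obj Wy, _, hτ, hσ, ⟨?_⟩⟩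
  exact (LTen₂ B).mapIso (Iso.prod k eL) ≪≫ s₁ ≪≫
    (shiftFunctor _ (m : ℤ)).mapIso (s₂ ≪≫ (shiftFunctor _ (n : ℤ)).mapIso
      ((LTen₂ B).mapIso (Iso.prod (Iso.refl Z) eV.symm) ≪≫ eG.symm)) ≪≫
    ((shiftFunctorAdd' (Dual.D B) (n : ℤ) (m : ℤ) ((m + n : ℕ) : ℤ) (by omega)).app _).symm

end RelDualRingLib
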