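import Groth.Agent.RelDualRingLib.Canon
import Groth.Agent.RelDualRingLib.Bidual

/-!
# Uniqueness of relative dualizing complexes
-/

set_option autoImplicit false
set_option linter.all false
set_option maxHeartbeats 1000000

universe u

open CategoryTheory CategoryTheory.Limits MonoidalCategory
open Groth.Agent DTen DTenLib
open scoped TensorProduct
open DTenLib.Point (hH sg)

attribute [local instance] HasDerivedCategory.standard

noncomputable section

namespace RelDualRingLib

open FinDualLib Groth.Agent.DualCxLib TorIndBCLib ShriekRingLib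

theorem isCanon_of_iso {R A : Type u} [CommRing R] [CommRing A] [Algebra R A] {K L : Dual.D A} (e : L ≅ K)
    (h : IsCanon R A K) : IsCanon R A L := by
  obtain ⟨n, ψ, W, δ, h₁, h₂, ⟨e'⟩⟩ := h
  exact ⟨n, ψ, W, δ, h₁, h₂, ⟨e ≪≫ e'⟩⟩

theorem isPerfectModule_of_fp_flat (R : Type u) [CommRing R] (n : ℕ) (M : Type u) [AddCommGroup M]
    [Module (MvPolynomial (Fin n) R) M] [Module R M] [IsScalarTower R (MvPolynomial (Fin n) R) M]
    [Module.FinitePresentation (MvPolynomial (Fin n) R) M] [Module.Flat R M] :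
    DRing.IsPerfectModule (MvPolynomial (Fin n) R) M := by
  obtain ⟨d, hd⟩ := DiagLib.exists_FD_of_hasFiniteTorDim (PerfModLib.hasFiniteTorDim_of_flat (R := R) (M := M))
  exact PerfModLib.perfect_iff.2 ⟨PerfModLib.pcoh'_iff.1
      (PerfModLib.pcoh'_of_flat (A := R) (B := MvPolynomial (Fin n) R) M),
    CILib.hasFiniteTorDim_of_FD (PerfModLib.fd_mvPolynomial R n d M hd)⟩

variable (R A : Type u) [CommRing R] [CommRing A] [Algebra R A] [Module.Flat R A] [Algebra.FinitePresentation R A]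

/-- A relatively perfect object is perfect over a polynomial ring mapping onto the algebra. -/
theorem isPerfect_res {L : Dual.D A} (hL : Dual2.IsRelPerfect R A L) (n : ℕ) [Algebra (MvPolynomial (Fin n) R) A]
    [IsScalarTower R (MvPolynomial (Fin n) R) A]
    (hsurj : Function.Surjective (algebraMap (MvPolynomial (Fin n) R) A)) :
    DRing.IsPerfect (MvPolynomial (Fin n) R)
      ((DRing.restrictD (algebraMap (MvPolynomial (Fin n) R) A)).obj L) := by
  obtain ⟨F, E, g, a, b, -, -, hg, hE, hT, ⟨eF⟩⟩ := RelPerfLib.exists_rep hL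
  let P := MvPolynomial (Fin n) R
  haveI : Module.FinitePresentation P A :=
    Module.finitePresentation_of_surjective (Algebra.linearMap P A) hsurj
      (Algebra.FinitePresentation.ker_fG_of_surjective (IsScalarTower.toAlgHom R P A) hsurj)
  haveI := hg
  let eE : DerivedCategory.Q.obj E ≅ L := (asIso (DerivedCategory.Q.map g)).symm ≪≫ eF
  refine DRingLib.isPerfect_of_iso ((resFactors (algebraMap P A)).symm.app E ≪≫ (DRing.restrictD _).mapIso eE)
    (DRingLib.devissable_isPerfect.of_terms a (b + 1 - a).toNat _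
      (fun i hi => (ModuleCat.restrictScalars.{u} (algebraMap P A)).map_isZero (hE i (by omega))) fun i =>
        DRingLib.isPerfect_singleFunctor ?_ i)
  letI : Module R (E.X i : Type u) := Module.compHom _ (algebraMap R A)
  letI : Module P (E.X i : Type u) := Module.compHom _ (algebraMap P A)
  haveI : IsScalarTower R A (E.X i : Type u) := IsScalarTower.of_algebraMap_smul fun _ _ => rfl
  haveI : IsScalarTower P A (E.X i : Type u) := IsScalarTower.of_algebraMap_smul fun _ _ => rfl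
  haveI : IsScalarTower R P (E.X i : Type u) := IsScalarTower.of_algebraMap_smul fun r x =>
    congrArg (· • x) (IsScalarTower.algebraMap_apply R P A r).symm
  haveI : Module.Flat R (E.X i : Type u) := (hT i).2
  haveI := (hT i).1
  haveI : Module.FinitePresentation P (E.X i : Type u) := Module.FinitePresentation.trans P (E.X i : Type u) A
  exact isPerfectModule_of_fp_flat R n (E.X i : Type u)

/-- A relative dualizing complex is isomorphic to every canonical one. -/
theorem nonempty_iso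
    [DRing.HasLBaseChange (Algebra.TensorProduct.includeLeftRingHom : A →+* TensorProduct R A A)]
    {Rμ : Dual.D (TensorProduct R A A) ⥤ Dual.D A}
    (adjμ : DRing.restrictD (Algebra.TensorProduct.lmul' R (S := A)).toRingHom ⊣ Rμ)
    {K₀ L : Dual.D A} (hK₀ : IsCanon R A K₀) (hL : Dual2.IsRelDualizing R A Rμ L) : Nonempty (K₀ ≅ L) := by
  obtain ⟨n, ψ, W, δ, hψ, hδ, ⟨e₀⟩⟩ := id hK₀
  let P := MvPolynomial (Fin n) R
  letI : Algebra P A := ψ.toRingHom.toAlgebra
  haveI : IsScalarTower R P A := IsScalarTower.of_algebraMap_eq fun r => (ψ.commutes r).symm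
  have hperf : DRing.IsPerfectModule P A := isPerfectModule_of_flat' R n A hψ
  haveI := Groth.Agent.DualCxLib.hasLTen (A := P)
  haveI := Groth.Agent.DualCxLib.hasRHom (A := P)
  haveI := Groth.Agent.DualCxLib.hasLTen (A := A)
  haveI := Groth.Agent.DualCxLib.hasRHom (A := A)
  haveI := Groth.Agent.DualCxLib.hasLTen (A := A ⊗[R] A)
  haveI := Groth.Agent.DualCxLib.hasRHom (A := A ⊗[R] A)
  haveI : HasLTen₃ P := DTenLib.hasLTen₃ P
  haveI : IsSymMonoidal P := DTenLib.isSymMonoidal P
  haveI : HasLTen₃ A := DTenLib.hasLTen₃ A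
  haveI : IsSymMonoidal A := DTenLib.isSymMonoidal A
  obtain ⟨⟨G, adj⟩⟩ := exists_rightAdjoint (algebraMap P A)
  let K := G.obj ((unit P)⟦(n : ℤ)⟧)
  obtain ⟨eG, -⟩ := FinDualLib.exists_iso _
    (isCoUniv_of_adjunction (algebraMap P A) adj ((unit P)⟦(n : ℤ)⟧)) (isCoUniv_shift hδ (n : ℤ))
  have hK : IsCanon R A K := isCanon_of_iso (eG ≪≫ e₀.symm) hK₀
  obtain ⟨u⟩ := nonempty_RHom_self' (toEnd R A hK).1 (toEnd R A hK).2
  have hLp := isPerfect_res R A hL.1 n hψ
  haveI := isIso_evalHom adj (n : ℤ) hperf u hL.1.1 hLp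
  let T := (RHomR A L).obj K
  let bd : L ≅ (RHomR A T).obj K :=
    (DTen.leftUnitor L).symm ≪≫ (tensorRightD A L).mapIso u ≪≫ asIso (evalHom L K K)
  obtain ⟨eT⟩ := nonempty_res_dual adj (n : ℤ) L
  have hTp : DRing.IsPerfect P ((DRing.restrictD (algebraMap P A)).obj T) :=
    DRingLib.isPerfect_of_iso eT.symm (isPerfect_RHom_shiftUnit hLp _)
  have hT : DRing.IsPseudoCoherent' A T :=
    (Groth.Agent.S6940.result (PerfModLib.pcoh'_iff.2 (PerfModLib.perfect_iff.1 hperf).1) T 0).2.2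
      (DRingLib.isPseudoCoherent'_iff_forall.2 (DRingLib.isPerfect_iff.1 hTp).1)
  obtain ⟨-, hKp⟩ : Function.Surjective ψ ∧ DRing.IsPerfect P ((DRing.restrictD (algebraMap P A)).obj K) :=
    ⟨hψ, isPerfect_res R A (isRelDualizing R A adjμ hK).1 n hψ⟩
  obtain ⟨a, b, hab⟩ := bounded_of_perfect hKp
  have hKge : K.IsGE a := (DerivedCategory.isGE_iff K a).2 fun i hi =>
    haveI := hab i (Or.inl hi)
    ModuleCat.isZero_of_subsingleton _
  let E := A ⊗[R] A
  haveI := hasLBase (algebraMap A E)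
  haveI := hasResTen (algebraMap A E)
  haveI := resLegIso (algebraMap A E)
  haveI := isIso_bcRHom_of_hasFiniteTorDim (R' := E) T K PerfModLib.hasFiniteTorDim_of_flat hT a hKge
  let μ := (Algebra.TensorProduct.lmul' R (S := A)).toRingHom
  haveI := hasLBase μ
  let T' := (LBase (algebraMap A E)).obj T
  obtain ⟨θ⟩ := nonempty_rightAdjoint_RHom μ adjμ T'
  have hμ : μ.comp (algebraMap A E) = RingHom.id A := RingHom.ext fun a => by
    show Algebra.TensorProduct.lmul' R (a ⊗ₜ[R] (1 : A)) = a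
    rw [Algebra.TensorProduct.lmul'_apply_tmul, mul_one]
  obtain ⟨kT, -⟩ := exists_iso_univ
    (isUniv_comp hμ (isUniv_unit (baseAdj (algebraMap A E)) T) (isUniv_unit (baseAdj μ) T'))
    (isUniv_of_iso (RingEquiv.refl A) (resDId.app T).symm)
  obtain ⟨cL⟩ := nonempty_LBaseChange_iso_LBase
    (Algebra.TensorProduct.includeLeftRingHom : A →+* E) L
  obtain ⟨cK⟩ := nonempty_LBaseChange_iso_LBase
    (Algebra.TensorProduct.includeLeftRingHom : A →+* E) K
  obtain ⟨iL⟩ := hL.2
  obtain ⟨iK⟩ := rigid R A adjμ hK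
  let q : Rμ.obj ((LBase (algebraMap A E)).obj K) ≅ unit A :=
    Rμ.mapIso cK.symm ≪≫ iK ≪≫ inDUnit A
  let e : unit A ≅ (RHomR A T).obj (unit A) :=
    (inDUnit A).symm ≪≫ iL.symm ≪≫ Rμ.mapIso (cL ≪≫ (LBase (algebraMap A E)).mapIso bd ≪≫
      asIso (bcRHom (algebraMap A E) T K)) ≪≫ (θ.app _).symm ≪≫
      ((RHom A).mapIso kT.symm.op).app _ ≪≫ (RHomR A T).mapIso q
  obtain ⟨t⟩ := nonempty_iso_unit_of_dual hT e
  obtain ⟨z⟩ := nonempty_RHom_shiftUnit K 0
  let z0 : (unit A)⟦-(0 : ℤ)⟧ ≅ unit A :=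
    eqToIso (congrArg (fun j : ℤ => (unit A)⟦j⟧) neg_zero) ≪≫ (shiftFunctorZero (Dual.D A) ℤ).app _
  exact ⟨e₀ ≪≫ eG.symm ≪≫ (bd ≪≫ ((RHom A).mapIso (z0 ≪≫ t.symm).op).app K ≪≫ z.symm ≪≫
    (shiftFunctorZero (Dual.D A) ℤ).app K).symm⟩

/-- Relative dualizing complexes are canonical. -/
theorem isCanon_of_isRelDualizing
    [DRing.HasLBaseChange (Algebra.TensorProduct.includeLeftRingHom : A →+* TensorProduct R A A)]
    {Rμ : Dual.D (TensorProduct R A A) ⥤ Dual.D A}
    (adjμ : DRing.restrictD (Algebra.TensorProduct.lmul' R (S := A)).toRingHom ⊣ Rμ)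
    {L : Dual.D A} (hL : Dual2.IsRelDualizing R A Rμ L) : IsCanon R A L := by
  obtain ⟨K₀, hK₀⟩ := exists_canon R A
  obtain ⟨e⟩ := nonempty_iso R A adjμ hK₀ hL
  exact isCanon_of_iso e.symm hK₀

end RelDualRingLib
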